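import Mathlib

/-!
# Projectivity over a finite product of rings
-/

set_option autoImplicit false

universe u v

open scoped TensorProduct

namespace Groth.Agent.ProjEt

/-- A module over a finite product of rings is projective once its factors are. -/
theorem projective_of_pi {ι : Type*} [Finite ι] {R : ι → Type u} [∀ i, CommRing (R i)] {P : Type v} [AddCommGroup P]
    [Module (∀ i, R i) P]
    (h : ∀ i, letI := (Pi.evalRingHom R i).toAlgebra; Module.Projective (R i) (R i ⊗[∀ j, R j] P)) :
    Module.Projective (∀ i, R i) P := by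
  classical
  cases nonempty_fintype ι
  letI al : ∀ i, Algebra (∀ j, R j) (R i) := fun i => (Pi.evalRingHom R i).toAlgebra
  have hsm : ∀ (i : ι) (r : ∀ j, R j) (x : R i), r • x = r i * x := fun i r x => rfl
  let sing : ∀ i, R i →ₗ[∀ j, R j] (∀ j, R j) := fun i =>
    { toFun := Pi.single i
      map_add' := fun a b => Pi.single_add i a b
      map_smul' := fun r x => by
        ext j
        by_cases hj : j = i
        · subst hj; simp [hsm]
        · simp [hj] }
  have hR : ∀ i, Module.Projective (∀ j, R j) (R i) := fun i =>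
    Module.Projective.of_split (sing i) (Algebra.linearMap (∀ j, R j) (R i)) (LinearMap.ext fun x => by
      show (Pi.single i x : ∀ j, R j) i = x
      simp)
  have hP : ∀ i, Module.Projective (∀ j, R j) (R i ⊗[∀ j, R j] P) := fun i => by
    haveI := h i
    haveI := hR i
    obtain ⟨s, hs⟩ := Module.projective_def'.1 (h i)
    haveI : Module.Projective (∀ j, R j) ((R i ⊗[∀ j, R j] P) →₀ R i) :=
      Module.Projective.of_equiv' (finsuppLEquivDirectSum _ _ _).symm
    exact Module.Projective.of_split (s.restrictScalars _) ((Finsupp.linearCombination (R i) id).restrictScalars _)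
      (LinearMap.ext fun x => LinearMap.congr_fun hs x)
  let j : P →ₗ[∀ j, R j] DirectSum ι fun i => R i ⊗[∀ j, R j] P :=
    ∑ i, (DirectSum.lof (∀ j, R j) ι (fun i => R i ⊗[∀ j, R j] P) i) ∘ₗ TensorProduct.mk (∀ j, R j) (R i) P 1
  let s : (DirectSum ι fun i => R i ⊗[∀ j, R j] P) →ₗ[∀ j, R j] P :=
    DirectSum.toModule (∀ j, R j) ι P fun i => (TensorProduct.lid (∀ j, R j) P).toLinearMap ∘ₗ (sing i).rTensor P
  refine Module.Projective.of_split j s (LinearMap.ext fun x => ?_)
  simp only [s, j, LinearMap.comp_apply, LinearMap.sum_apply, map_sum, DirectSum.toModule_lof,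
    TensorProduct.mk_apply, LinearMap.rTensor_tmul, LinearEquiv.coe_coe, TensorProduct.lid_tmul, LinearMap.id_apply]
  rw [← Finset.sum_smul]
  have h1 : (∑ i, sing i 1) = 1 := Finset.univ_sum_single (1 : ∀ j, R j)
  rw [h1, one_smul]

end Groth.Agent.ProjEt
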