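import Groth.Agent.EtQC.WeakAss
import Groth.Agent.ProjEt.Alg
import Groth.Agent.S0585

/-!
# Projectivity of sections along etale maps of affine objects
-/

set_option autoImplicit false
set_option backward.isDefEq.respectTransparency false
set_option backward.isDefEq.respectTransparency.types false

universe u

open CategoryTheory CategoryTheory.Limits AlgebraicGeometry Opposite AlgSp
open scoped TensorProduct
open Groth.Agent.EtQC

namespace Groth.Agent.ProjEt

variable {S : Scheme.{u}} {X : Sp S} (M : ModEt X) [M.IsQuasicoherent]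

theorem projective_of_hom {E E' : EtOver X} (g : E' ⟶ E) [IsAffine E.obj.left.left] [IsAffine E'.obj.left.left]
    (h : Module.Projective (Fn E) (sectModEt M E)) : Module.Projective (Fn E') (sectModEt M E') := by
  letI := (fmap g).toAlgebra
  haveI := h
  exact Module.Projective.of_equiv' (bcEquiv M g)

/-- Projectivity of a small module of sections descends along a jointly surjective etale family. -/
theorem projective_of_cover {E : EtOver X} [IsAffine E.obj.left.left] {ι : Type u} [Finite ι] (V : ι → EtOver X)
    (g : ∀ i, V i ⟶ E) [∀ i, IsAffine (V i).obj.left.left]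
    (hcov : ∀ x : E.obj.left.left, ∃ (i : ι) (y : (V i).obj.left.left), (g i).hom.left.left y = x)
    (h : ∀ i, Module.Projective (Fn (V i)) (sectModEt M (V i)))
    (N : Type u) [AddCommGroup N] [Module (Fn E) N] (e : N ≃ₗ[Fn E] sectModEt M E) :
    Module.Projective (Fn E) N := by
  classical
  cases nonempty_fintype ι
  letI al : ∀ i, Algebra (Fn E) (Fn (V i)) := fun i => (fmap (g i)).toAlgebra
  haveI hfl : ∀ i, Module.Flat (Fn E) (Fn (V i)) := fun i => by
    haveI := etale_fmap (g i)
    infer_instance
  haveI : Module.Flat (Fn E) (∀ i, Fn (V i)) :=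
    Module.Flat.of_linearEquiv (DirectSum.linearEquivFunOnFintype (Fn E) ι fun i => Fn (V i)).symm
  haveI : Module.FaithfullyFlat (Fn E) (∀ i, Fn (V i)) := by
    refine Module.FaithfullyFlat.of_comap_surjective fun P => ?_
    obtain ⟨x, rfl⟩ : ∃ x : E.obj.left.left, E.obj.left.left.isoSpec.hom x = P :=
      E.obj.left.left.isoSpec.hom.homeomorph.surjective P
    obtain ⟨i, y, rfl⟩ := hcov x
    refine ⟨PrimeSpectrum.comap (Pi.evalRingHom (fun i => Fn (V i)) i) ((V i).obj.left.left.isoSpec.hom y), ?_⟩
    rw [← PrimeSpectrum.comap_comp_apply, ← Scheme.Hom.comp_apply, ← Scheme.isoSpec_hom_naturality]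
    rfl
  haveI : Module.Projective (∀ i, Fn (V i)) ((∀ i, Fn (V i)) ⊗[Fn E] N) := by
    refine projective_of_pi fun i => ?_
    letI ai : Algebra (∀ j, Fn (V j)) (Fn (V i)) := (Pi.evalRingHom _ i).toAlgebra
    haveI : IsScalarTower (Fn E) (∀ j, Fn (V j)) (Fn (V i)) := IsScalarTower.of_algebraMap_eq fun _ => rfl
    haveI := h i
    haveI : Module.Projective (Fn (V i)) (Fn (V i) ⊗[Fn E] N) := Module.Projective.of_equiv'
      ((bcEquiv M (g i)).symm.trans
        (TensorProduct.AlgebraTensorModule.congr (LinearEquiv.refl (Fn (V i)) (Fn (V i))) e.symm))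
    exact Module.Projective.of_equiv'
      (TensorProduct.AlgebraTensorModule.cancelBaseChange (Fn E) (∀ j, Fn (V j)) (Fn (V i)) (Fn (V i)) N).symm
  exact Groth.Agent.S0585.result (Fn E) (∀ i, Fn (V i)) N

end Groth.Agent.ProjEt
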