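import Groth.Agent.ProjEt.Descend
import Groth.Agent.EtQC.Pull
import Groth.Agent.AlgSpDec.EtPullRestrict

/-!
# Locally projective modules on the small etale site of an algebraic space
-/

set_option autoImplicit false
set_option backward.isDefEq.respectTransparency false
set_option backward.isDefEq.respectTransparency.types false

universe u

open CategoryTheory CategoryTheory.Limits AlgebraicGeometry Opposite AlgSp
open scoped TensorProduct
open Groth.Agent.EtQC Groth.Agent.AlgSpLib

namespace Groth.Agent.ProjEt

variable {S : Scheme.{u}} {X : Sp S} {U : Over S}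

/-- An open of an etale chart as an object over the space. -/
noncomputable abbrev EW {p : (yon S).obj U ⟶ X} (hp : IsEtaleMor p) (W : U.left.Opens) : EtOver X :=
  (EtOver.postcomp p hp).obj ((EtOver.ofScheme U).obj (etaleOfOpen U.left W))

variable {p : (yon S).obj U ⟶ X} (hrep : Representable p) (hp : IsEtaleMor p)
  [(SheafOfModules.pushforward.{u + 1} (bcRingHom hrep)).IsRightAdjoint] (F : ModEt X)


/-- Sections of a restriction along an etale map. -/
noncomputable def e1 (W : U.left.Opens) :
    haveI := AlgSpDec.PostcompSite.isContinuous p hp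
    sectModEt F (EW hp W) ≃+
      ((SheafOfModules.pushforward.{u + 1} (AlgSpDec.EtPullRestrict.φ hp)).obj F).val.obj
        (op ((EtOver.ofScheme U).obj (etaleOfOpen U.left W))) :=
  AddEquiv.refl _

/-- Isomorphic modules have isomorphic sections. -/
noncomputable def e2 (M N : ModEt ((yon S).obj U)) (ν : M ≅ N) (E : EtOver ((yon S).obj U)) :
    sectModEt M E ≃+ sectModEt N E where
  toFun m := ν.hom.val.app (op E) m
  invFun m := ν.inv.val.app (op E) m
  left_inv m := by
    have h := congrArg (fun t => t.val.app (op E) m) ν.hom_inv_id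
    exact h
  right_inv m := by
    have h := congrArg (fun t => t.val.app (op E) m) ν.inv_hom_id
    exact h
  map_add' a b := (ν.hom.val.app (op E)).hom.map_add a b

/-- Sections of the restriction to Mathlib's small etale site. -/
noncomputable def e3 (M : ModEt ((yon S).obj U)) (W : U.left.Opens) :
    sectModEt M ((EtOver.ofScheme U).obj (etaleOfOpen U.left W)) ≃+
      ((resSchModEt U).obj M).val.obj (op (etaleOfOpen U.left W)) :=
  AddEquiv.refl _

theorem e1_smul (W : U.left.Opens) (a : Γ(U.left, W)) (m : sectModEt F (EW hp W)) :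
    haveI := AlgSpDec.PostcompSite.isContinuous p hp
    e1 hp F W ((show Fn (EW hp W) from W.topIso.inv a) • m) =
      upΓ ((EtOver.ofScheme U).obj (etaleOfOpen U.left W))
        (show Fn ((EtOver.ofScheme U).obj (etaleOfOpen U.left W)) from W.topIso.inv a) • e1 hp F W m := by
  rfl

theorem e2_smul (M N : ModEt ((yon S).obj U)) (ν : M ≅ N) (E : EtOver ((yon S).obj U)) (a : Fn E) (m : sectModEt M E) :
    e2 M N ν E (a • m) = a • e2 M N ν E m :=
  (ν.hom.val.app (op E)).hom.map_smul _ m

theorem e3_smul (M : ModEt ((yon S).obj U)) (W : U.left.Opens) (a : Γ(U.left, W))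
    (m : sectModEt M ((EtOver.ofScheme U).obj (etaleOfOpen U.left W))) :
    e3 M W (upΓ ((EtOver.ofScheme U).obj (etaleOfOpen U.left W))
        (show Fn ((EtOver.ofScheme U).obj (etaleOfOpen U.left W)) from W.topIso.inv a) • m) =
      (ULift.up (W.topIso.inv a) : (OEtSchRing U.left).obj.obj (op (etaleOfOpen U.left W))) • e3 M W m :=
  rfl

set_option maxHeartbeats 400000 in
theorem exists_secEquiv (G : U.left.Modules)
    (c : ZarCompanion U.left G ((resSchModEt U).obj ((pullModEt hrep).obj F))) (W : U.left.Opens) :
    ∃ e : sectModEt F (EW hp W) ≃+ ULift.{u + 1} (G.val.obj (op W) : Type u),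
      ∀ (a : Γ(U.left, W)) (m : sectModEt F (EW hp W)),
        e ((show Fn (EW hp W) from W.topIso.inv a) • m) = ULift.up (a • (e m).down) := by
  haveI := AlgSpDec.PostcompSite.isContinuous p hp
  let ν := ((AlgSpDec.EtPullRestrict.modAdj hrep hp).leftAdjointUniq (pullPushAdjModEt hrep)).app F
  let E := (EtOver.ofScheme U).obj (etaleOfOpen U.left W)
  refine ⟨(((e1 hp F W).trans (e2 _ _ ν E)).trans (e3 _ W)).trans (c.iso W), fun a m => ?_⟩
  have h1 := e1_smul hp F W a m
  have h2 := e2_smul _ _ ν E (show Fn E from W.topIso.inv a) (e1 hp F W m)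
  have h3 := e3_smul ((pullModEt hrep).obj F) W a (e2 _ _ ν E (e1 hp F W m))
  have h4 := c.map_smul W a (e3 _ W (e2 _ _ ν E (e1 hp F W m)))
  exact (congrArg (fun z => c.iso W (e3 _ W (e2 _ _ ν E z))) h1).trans
    ((congrArg (fun z => c.iso W (e3 _ W z)) h2).trans ((congrArg (c.iso W) h3).trans h4))

theorem isAffine_EW {W : U.left.Opens} (hW : IsAffineOpen W) : IsAffine (EW hp W).obj.left.left := hW

/-- A chart open has projective sections of the companion exactly when it has projective sections. -/
theorem projective_EW (G : U.left.Modules)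
    (c : ZarCompanion U.left G ((resSchModEt U).obj ((pullModEt hrep).obj F))) (W : U.left.Opens)
    (h : Module.Projective (U.left.ringCatSheaf.obj.obj (Opposite.op W)) (G.val.obj (Opposite.op W))) :
    Module.Projective (Fn (EW hp W)) (sectModEt F (EW hp W)) := by
  obtain ⟨e, he⟩ := exists_secEquiv hrep hp F G c W
  let r : Γ(U.left, W) ≃+* Fn (EW hp W) := W.topIso.symm.commRingCatIsoToRingEquiv
  letI := RingHomInvPair.of_ringEquiv r
  letI := RingHomInvPair.of_ringEquiv r.symm
  haveI : Module.Projective Γ(U.left, W) (G.val.obj (Opposite.op W) : Type u) := h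
  let e' : (G.val.obj (Opposite.op W) : Type u) ≃ₛₗ[(r : Γ(U.left, W) →+* Fn (EW hp W))] sectModEt F (EW hp W) :=
    { toFun := fun x => e.symm (ULift.up x)
      invFun := fun m => (e m).down
      left_inv := fun x => congrArg ULift.down (e.apply_symm_apply _)
      right_inv := fun m => e.symm_apply_apply m
      map_add' := fun x y => e.symm.map_add (ULift.up x) (ULift.up y)
      map_smul' := fun a x => e.injective (by
        rw [AddEquiv.apply_symm_apply]
        refine (Eq.trans ?_ (he a (e.symm (ULift.up x))).symm)
        rw [AddEquiv.apply_symm_apply]) }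
  exact Module.Projective.of_equiv e'

end Groth.Agent.ProjEt
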